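import Cfsg.Agent.H107.DZ.Row
import Cfsg.Agent.H999.FxPSp
import Cfsg.Agent.Lib.Zsigmondy
import Cfsg.Agent.S0270
import Cfsg.Agent.LieClassical.SympTransvection

/-!
# The rows `PSp_2m(q)` of S4897
-/

set_option autoImplicit false
set_option linter.unusedSectionVars false

namespace Cfsg.Agent.H107.DZ.PSpRow

open Cfsg Matrix Cfsg.Agent.H504.Zeros Cfsg.Agent.H504.TwoZ Cfsg.Agent.H665.NoPQ Cfsg.Agent.LieClassical
open Cfsg.Agent.H999.FxPSp

variable {F : Type} [Field F] [Fintype F] {m : ℕ}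

theorem center_scalar (z : symplecticGroup (Fin m) F) (hz : z ∈ Subgroup.center (symplecticGroup (Fin m) F)) :
    ∃ a : F, ((H104.IrrSp.spGL m F z : GL (Fin m ⊕ Fin m) F) : Matrix (Fin m ⊕ Fin m) (Fin m ⊕ Fin m) F) =
      a • 1 :=
  (SympCenter.mem_center_iff m z).1 hz

/-- primitive prime divisors -/
theorem exists_prim (hm : 2 ≤ m) (hq : Fintype.card F = 2 → m ≠ 3) : ∃ r : ℕ, r.Prime ∧
    (∀ i, 0 < i → i < Fintype.card (Fin m ⊕ Fin m) → ¬ r ∣ Fintype.card F ^ i - 1) ∧ ¬ r ∣ Fintype.card F ∧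
      r ∣ Fintype.card F ^ m + 1 ∧ 2 * m + 1 ≤ r := by
  have hq2 : 2 ≤ Fintype.card F := Fintype.one_lt_card
  obtain ⟨r, hr, h1, h2, h3⟩ := Cfsg.Agent.Lib.Zsigmondy.exists_primitive (a := Fintype.card F) (n := 2 * m) hq2
    (by omega) (by omega) (by
      rintro ⟨h, h'⟩
      exact hq h (by omega))
  have h4 : ∀ i, 0 < i → i < 2 * m → ¬ r ∣ Fintype.card F ^ i - 1 := fun i hi hi' h =>
    absurd (Nat.le_of_dvd hi ((h1 i).1 h)) (by omega)
  refine ⟨r, hr, fun i hi hi' => h4 i hi (by simpa [two_mul] using hi'), h3, ?_, ?_⟩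
  · have h5 : r ∣ Fintype.card F ^ (2 * m) - 1 := (h1 _).2 dvd_rfl
    have h6 : Fintype.card F ^ (2 * m) - 1 = (Fintype.card F ^ m + 1) * (Fintype.card F ^ m - 1) := by
      rw [mul_comm 2 m, pow_mul, sq]
      have : 1 ≤ Fintype.card F ^ m := Nat.one_le_pow _ _ (by omega)
      obtain ⟨c, hc⟩ : ∃ c, Fintype.card F ^ m = c + 1 := ⟨Fintype.card F ^ m - 1, by omega⟩
      rw [hc, Nat.add_sub_cancel]
      have : (c + 1) * (c + 1) = (c + 1 + 1) * c + 1 := by ring
      rw [this, Nat.add_sub_cancel]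
    rw [h6] at h5
    rcases hr.dvd_mul.1 h5 with h | h
    · exact h
    · exact absurd h (h4 m (by omega) (by omega))
  · have h5 := Nat.le_of_dvd (by have := hr.two_le; omega) h2
    have := hr.two_le
    omega

/-- **`r`-defect zero** -/
theorem hasDZ (hm : 2 ≤ m) {r : ℕ} [hr : Fact r.Prime]
    (hp : ∀ i, 0 < i → i < Fintype.card (Fin m ⊕ Fin m) → ¬ r ∣ Fintype.card F ^ i - 1)
    (hq : ¬ r ∣ Fintype.card F) : HasDZ r (PSp m F) := by
  let v : Fin m ⊕ Fin m → F := Pi.single (Sum.inl ⟨0, by omega⟩) 1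
  have hv : v ≠ 0 := by
    intro h
    have := congrFun h (Sum.inl ⟨0, by omega⟩)
    simp [v] at this
  have hJv : J (Fin m) F *ᵥ v ≠ 0 := by
    intro h
    apply hv
    have h1 := congrArg (fun w => J (Fin m) F *ᵥ w) h
    simp only [Matrix.mulVec_mulVec, Matrix.J_squared, Matrix.mulVec_zero, Matrix.neg_mulVec, Matrix.one_mulVec] at h1
    simpa using h1
  refine hasDZ_of_prim (Subgroup.center (symplecticGroup (Fin m) F)) (H104.IrrSp.spGL m F)
    H104.IrrSp.spGL_injective center_scalar ?_ hp hq (SympTransvection.tvS 1 v) v (J (Fin m) F *ᵥ v) hv hJv ?_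
  · rw [Fintype.card_sum, Fintype.card_fin]; omega
  · show (SympTransvection.tv 1 v : Matrix (Fin m ⊕ Fin m) (Fin m ⊕ Fin m) F) = _
    rw [SympTransvection.tv_def, one_smul]

/-- three orders divisible by `p` -/
theorem orders {l p : ℕ} (hl : 1 ≤ l) (h : 3 ≤ Fintype.card F ^ l) (hp : p.Prime) [CharP F p] :
    ∃ s : Finset ℕ, s.card = 3 ∧ ∀ n ∈ s, p ∣ n ∧ ∃ g : PSp (1 + l) F, orderOf g = n := by
  classical
  have : Fact p.Prime := ⟨hp⟩
  have hpq : p ∣ Fintype.card F := by
    obtain ⟨n, -, hn⟩ := FiniteField.card F p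
    rw [hn]
    exact dvd_pow_self _ n.ne_zero
  have hq : Nat.card F = Fintype.card F := Nat.card_eq_fintype_card
  obtain ⟨a, ha⟩ := exists_prime_orderOf_dvd_card' (G := symplecticGroup (Fin 1) F) p (by
    rw [card_one]
    exact Dvd.dvd.mul_right hpq _)
  obtain ⟨b, hb⟩ := H376.SpEmb.exists_plus F l (by omega)
  obtain ⟨c, hc⟩ := H376.SpEmb.exists_minus F l (by omega)
  rw [hq] at hb hc
  have hpl : p ∣ Fintype.card F ^ l := hpq.trans (dvd_pow_self _ (by omega))
  have hcop1 : Nat.Coprime p (Fintype.card F ^ l + 1) := by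
    rw [Nat.Prime.coprime_iff_not_dvd hp]
    intro hd
    have := (Nat.dvd_add_right hpl).1 hd
    exact hp.one_lt.ne' (Nat.dvd_one.1 this)
  have hcop2 : Nat.Coprime p (Fintype.card F ^ l - 1) := by
    rw [Nat.Prime.coprime_iff_not_dvd hp]
    intro hd
    have h1 := Nat.dvd_sub hpl hd
    rw [show Fintype.card F ^ l - (Fintype.card F ^ l - 1) = 1 by omega] at h1
    exact hp.one_lt.ne' (Nat.dvd_one.1 h1)
  have key : ∀ (y : symplecticGroup (Fin l) F) (k : ℕ), orderOf y = k → Nat.Coprime p k →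
      ∃ g : PSp (1 + l) F, orderOf g = p * k := by
    intro y k hy hk
    refine ⟨i1 1 l F a * i2 1 l F y, ?_⟩
    have h1 : orderOf (i1 1 l F a) = p := by rw [orderOf_injective _ (i1_injective hl), ha]
    have h2 : orderOf (i2 1 l F y) = k := by rw [orderOf_injective _ (i2_injective le_rfl), hy]
    have h3 : Commute (i1 1 l F a) (i2 1 l F y) := (i_comm a y).symm
    rw [h3.orderOf_mul_eq_mul_orderOf_of_coprime (by rw [h1, h2]; exact hk), h1, h2]
  refine ⟨{p, p * (Fintype.card F ^ l + 1), p * (Fintype.card F ^ l - 1)}, ?_, ?_⟩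
  · have hp0 := hp.pos
    rw [Finset.card_insert_of_notMem, Finset.card_insert_of_notMem, Finset.card_singleton]
    · rw [Finset.mem_singleton]
      intro h0
      have := Nat.eq_of_mul_eq_mul_left hp0 h0
      omega
    · rw [Finset.mem_insert, Finset.mem_singleton, not_or]
      constructor
      · intro h0
        have h1 : p * 1 = p * (Fintype.card F ^ l + 1) := by rw [mul_one]; exact h0
        have := Nat.eq_of_mul_eq_mul_left hp0 h1
        omega
      · intro h0
        have h1 : p * 1 = p * (Fintype.card F ^ l - 1) := by rw [mul_one]; exact h0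
        have := Nat.eq_of_mul_eq_mul_left hp0 h1
        omega
  · intro n hn
    rw [Finset.mem_insert, Finset.mem_insert, Finset.mem_singleton] at hn
    rcases hn with rfl | rfl | rfl
    · refine ⟨dvd_rfl, i1 1 l F a, ?_⟩
      rw [orderOf_injective _ (i1_injective hl), ha]
    · exact ⟨dvd_mul_right _ _, key b _ hb hcop1⟩
    · exact ⟨dvd_mul_right _ _, key c _ hc hcop2⟩

theorem isLie {p : ℕ} [CharP F p] (hm : 2 ≤ m) (h : m = 2 → 3 ≤ Fintype.card F) : IsLieTypeChar p (PSp m F) :=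
  Or.inr (Or.inl ⟨F, inferInstance, inferInstance, inferInstance, m, hm, h, ⟨MulEquiv.refl _⟩⟩)

/-- **the row `PSp_2m(q)`, `q ^ m` large** -/
theorem rowT_big (hm : 2 ≤ m) (h : m = 2 → 3 ≤ Fintype.card F) (h3 : Fintype.card F = 2 → m ≠ 3)
    (hbig : 2 * (Nat.gcd 2 (Fintype.card F - 1) * (2 * m + 1)) < Fintype.card F ^ m + 1) : RowT (PSp m F) := by
  classical
  obtain ⟨p, hp⟩ := CharP.exists F
  have hpp : p.Prime := CharP.char_is_prime F p
  have hpq : p ∣ Fintype.card F := by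
    have : Fact p.Prime := ⟨hpp⟩
    obtain ⟨n, -, hn⟩ := FiniteField.card F p
    rw [hn]
    exact dvd_pow_self _ n.ne_zero
  have hs : IsSimpleGroup (PSp m F) := S0270.result m hm h
  have hq2 : 2 ≤ Fintype.card F := Fintype.one_lt_card
  obtain ⟨r, hr, hr1, hr2, hr3, hr4⟩ := exists_prim (F := F) hm h3
  have : Fact r.Prime := ⟨hr⟩
  have hrp : r ≠ p := by
    rintro rfl
    exact hr2 hpq
  obtain ⟨A, hA⟩ := H376.SpEmb.exists_plus F m (by omega)
  obtain ⟨N, hN⟩ := hr3
  rw [Nat.card_eq_fintype_card, hN] at hA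
  have hN0 : 0 < N := by
    rcases Nat.eq_zero_or_pos N with h0 | h0
    · rw [h0, mul_zero] at hN
      omega
    · exact h0
  obtain ⟨t, ht1, ht2, ht3⟩ := exists_many (Subgroup.center (symplecticGroup (Fin m) F)) (H104.IrrSp.spGL m F)
    H104.IrrSp.spGL_injective center_scalar hr1 hr2 (by rw [Fintype.card_sum, Fintype.card_fin]; omega) hA hN0
    (t := 2) (by
      rw [SympCenter.card_center (by omega), Fintype.card_sum, Fintype.card_fin]
      set d := Nat.gcd 2 (Fintype.card F - 1) with hd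
      rw [hN] at hbig
      obtain ⟨c, rfl⟩ : ∃ c, r = c + 1 := ⟨r - 1, by omega⟩
      rw [Nat.add_sub_cancel]
      have h1 : 2 * m ≤ c := by omega
      -- (2 m + 1) c N ≥ 2 m (c + 1) N > 2 m * 2 d (2 m + 1)
      have h2 : 2 * m * ((c + 1) * N) ≤ (2 * m + 1) * (c * N) := by
        have : 2 * m * (c + 1) ≤ (2 * m + 1) * c := by nlinarith
        calc 2 * m * ((c + 1) * N) = (2 * m * (c + 1)) * N := by ring
          _ ≤ ((2 * m + 1) * c) * N := Nat.mul_le_mul_right _ this
          _ = _ := by ring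
      have h4 : 2 * m * (2 * (d * (2 * m + 1))) < 2 * m * ((c + 1) * N) :=
        Nat.mul_lt_mul_of_pos_left hbig (by omega)
      have h5 : (2 * m + 1) * (2 * ((m + m) * d)) < (2 * m + 1) * (c * N) := by
        calc (2 * m + 1) * (2 * ((m + m) * d)) = 2 * m * (2 * (d * (2 * m + 1))) := by ring
          _ < 2 * m * ((c + 1) * N) := h4
          _ ≤ _ := h2
      exact Nat.lt_of_mul_lt_mul_left h5)
  obtain ⟨l, rfl⟩ : ∃ l, m = 1 + l := ⟨m - 1, by omega⟩
  have hl3 : 3 ≤ Fintype.card F ^ l := by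
    rcases Nat.lt_or_ge (Fintype.card F) 3 with h5 | h5
    · have h6 : Fintype.card F = 2 := by omega
      have h7 : 2 ≤ l := by
        by_contra h8
        have := h (by omega)
        omega
      calc 3 ≤ Fintype.card F ^ 2 := by rw [h6]; norm_num
        _ ≤ _ := Nat.pow_le_pow_right (by omega) h7
    · exact h5.trans (Nat.le_self_pow (by omega) _)
  obtain ⟨s, hs1, hs2⟩ := orders (F := F) (p := p) (by omega) hl3 hpp
  have hfin : Finite (symplecticGroup (Fin (1 + l)) F) := Subtype.finite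
  exact rowT_of_dz' hpp hr hrp (isLie hm h) s hs2 hs1.ge (hasDZ hm hr1 hr2) t ht1 ht3 ht2

end Cfsg.Agent.H107.DZ.PSpRow
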