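import Cfsg.Agent.H107.DZ.PSp
import Cfsg.Agent.H107.DZ.Points
import Cfsg.Agent.H504.ZerosSt
import Cfsg.Agent.H167.HasStLie
import Cfsg.Agent.S0822
import Cfsg.Agent.H277.ClsPsp

/-!
# The rows `PSp_4(q)` and `PSp_2m(q)` of S4897
-/

set_option autoImplicit false
set_option linter.unusedSectionVars false

namespace Cfsg.Agent.H107.DZ.PSpRow

open Cfsg Matrix Cfsg.Agent.H504.Zeros Cfsg.Agent.H504.TwoZ Cfsg.Agent.H665.NoPQ Cfsg.Agent.LieClassical
open Cfsg.Agent.H999.FxPSp

variable {F : Type} [Field F] [Fintype F] {m : ℕ}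

theorem fact_one {n p : ℕ} (hp : p.Prime) (hn : n ≠ 0) (h : p ∣ n) (h2 : ¬ p ^ 2 ∣ n) : n.factorization p = 1 := by
  have h1 : 1 ≤ n.factorization p := hp.factorization_pos_of_dvd hn h
  have h3 : ¬ 2 ≤ n.factorization p := fun h4 => h2 ((hp.pow_dvd_iff_le_factorization hn).2 h4)
  omega

theorem exists_prime_order {G : Type*} [Group G] [Finite G] {r n : ℕ} (hr : r.Prime)
    (h : ∃ g : G, orderOf g = n) (hrn : r ∣ n) : ∃ g : G, orderOf g = r := by
  obtain ⟨g, hg⟩ := h
  have : Fact r.Prime := ⟨hr⟩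
  exact exists_prime_orderOf_dvd_card' r ((hg ▸ hrn).trans (orderOf_dvd_natCard g))

/-- the order `r p` and `r (q + 1)` -/
theorem orders_r {l p r : ℕ} (hl : 1 ≤ l) (hp : p.Prime) [CharP F p] (hr : r.Prime) (hrp : r ≠ p)
    (hrq : ¬ r ∣ Fintype.card F + 1) (hpq : p ≠ Fintype.card F + 1)
    (hy : ∃ y : symplecticGroup (Fin l) F, orderOf y = r) :
    ∃ s : Finset ℕ, s.card = 3 ∧ ∀ n ∈ s, r ∣ n ∧ ∃ g : PSp (1 + l) F, orderOf g = n := by
  classical
  have : Fact p.Prime := ⟨hp⟩
  have hpF : p ∣ Fintype.card F := by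
    obtain ⟨n, -, hn⟩ := FiniteField.card F p
    rw [hn]
    exact dvd_pow_self _ n.ne_zero
  obtain ⟨a, ha⟩ := exists_prime_orderOf_dvd_card' (G := symplecticGroup (Fin 1) F) p (by
    rw [card_one]
    exact Dvd.dvd.mul_right hpF _)
  obtain ⟨b, hb⟩ := H376.SpEmb.exists_plus F 1 one_ne_zero
  rw [Nat.card_eq_fintype_card, pow_one] at hb
  obtain ⟨y, hy⟩ := hy
  have key : ∀ (x : symplecticGroup (Fin 1) F) (k : ℕ), orderOf x = k → Nat.Coprime k r →
      ∃ g : PSp (1 + l) F, orderOf g = r * k := by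
    intro x k hx hk
    refine ⟨i1 1 l F x * i2 1 l F y, ?_⟩
    have h1 : orderOf (i1 1 l F x) = k := by rw [orderOf_injective _ (i1_injective hl), hx]
    have h2 : orderOf (i2 1 l F y) = r := by rw [orderOf_injective _ (i2_injective le_rfl), hy]
    have h3 : Commute (i1 1 l F x) (i2 1 l F y) := (i_comm x y).symm
    rw [h3.orderOf_mul_eq_mul_orderOf_of_coprime (by rw [h1, h2]; exact hk), h1, h2, mul_comm]
  have hr0 := hr.pos
  have hq2 : 1 < Fintype.card F := Fintype.one_lt_card
  refine ⟨{r * 1, r * p, r * (Fintype.card F + 1)}, ?_, ?_⟩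
  · rw [Finset.card_insert_of_notMem, Finset.card_insert_of_notMem, Finset.card_singleton]
    · rw [Finset.mem_singleton]
      exact fun h0 => hpq (Nat.eq_of_mul_eq_mul_left hr0 h0)
    · rw [Finset.mem_insert, Finset.mem_singleton, not_or]
      exact ⟨fun h0 => hp.one_lt.ne (Nat.eq_of_mul_eq_mul_left hr0 h0),
        fun h0 => by
          have := Nat.eq_of_mul_eq_mul_left hr0 h0
          omega⟩
  · intro n hn
    rw [Finset.mem_insert, Finset.mem_insert, Finset.mem_singleton] at hn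
    rcases hn with rfl | rfl | rfl
    · exact ⟨dvd_mul_right _ _, key 1 1 orderOf_one (Nat.coprime_one_left _)⟩
    · exact ⟨dvd_mul_right _ _, key a _ ha ((Nat.coprime_primes hp hr).2 hrp.symm)⟩
    · exact ⟨dvd_mul_right _ _, key b _ hb ((Nat.Prime.coprime_iff_not_dvd hr).2 hrq).symm⟩

/-- row from orders and defect zero -/
theorem rowT_orders {l p r : ℕ} (hl : 1 ≤ l) (hl3 : 3 ≤ Fintype.card F ^ l) (h : l = 1 → 3 ≤ Fintype.card F)
    (hp : p.Prime) [CharP F p] (hr : r.Prime) (hrp : r ≠ p)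
    (ht : ∃ s : Finset ℕ, s.card = 3 ∧ ∀ n ∈ s, r ∣ n ∧ ∃ g : PSp (1 + l) F, orderOf g = n)
    (hdz : HasDZ r (PSp (1 + l) F)) : RowT (PSp (1 + l) F) := by
  have hs : IsSimpleGroup (PSp (1 + l) F) := S0270.result (1 + l) (by omega) (fun h1 => h (by omega))
  have hfin : Finite (symplecticGroup (Fin (1 + l)) F) := Subtype.finite
  obtain ⟨s, hs1, hs2⟩ := orders (F := F) (p := p) hl hl3 hp
  obtain ⟨t, ht1, ht2⟩ := ht
  obtain ⟨u, hu, huc, huo⟩ := autNC_of_orders t fun n hn => (ht2 n hn).2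
  exact rowT_of_dz' hp hr hrp (isLie (by omega) fun h1 => h (by omega)) s hs2 hs1.ge hdz u hu.nonConj
    (fun g hg => (ht2 _ (huo g hg)).1) (by omega)

theorem charP_of_card {p : ℕ} [hp : Fact p.Prime] (h : Fintype.card F = p) : CharP F p := by
  obtain ⟨c, hc⟩ := CharP.exists F
  have hcp : c.Prime := CharP.char_is_prime F c
  have : Fact c.Prime := ⟨hcp⟩
  obtain ⟨n, -, hn⟩ := FiniteField.card F c
  have h1 : c ∣ p := by
    rw [← h, hn]
    exact dvd_pow_self _ n.ne_zero
  have h2 := (Nat.prime_dvd_prime_iff_eq hcp hp.out).1 h1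
  subst h2
  exact hc

/-- `r`-defect zero from the action on points -/
theorem hasDZ_points {n k : ℕ} (hm : 2 * m = n + 1) (hk : 0 < k) {q N r : ℕ} (hq : Fintype.card F = q)
    (h : (1 + k + q ^ n) * (q - 1) = q ^ (n + 1) - 1) (hN : Nat.card (PSp m F) = N)
    (hodd : Odd (k + q ^ n) ∨ ¬ (k + q ^ n) / 2 ∣ N)
    (hr : r.Prime) (h1 : r ∣ N) (h2 : ¬ r ^ 2 ∣ N) (h3 : r ∣ (1 + k + q ^ n) * k * q ^ n)
    (h4 : ¬ r ^ 2 ∣ (1 + k + q ^ n) * k * q ^ n) : HasDZ r (PSp m F) := by
  have hfin : Finite (symplecticGroup (Fin m) F) := Subtype.finite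
  subst hq
  obtain ⟨_, H⟩ := Points.exists_r3 (F := F) hm hk h
  have hN0 : N ≠ 0 := by
    rw [← hN]
    exact Nat.card_pos.ne'
  have hq0 : 0 < Fintype.card F ^ n := pow_pos Fintype.card_pos _
  refine H.hasDZ (by rw [hN]; exact hodd) (by rw [hN]; exact fact_one hr hN0 h1 h2) ?_
  rw [fact_one hr (by positivity) h3 h4]
  exact odd_one

theorem rowT_six_two (h : Fintype.card F = 2) : RowT (PSp 3 F) := by
  have : Fact (Nat.Prime 2) := ⟨Nat.prime_two⟩
  have := charP_of_card (F := F) (p := 2) h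
  have hN : Nat.card (PSp 3 F) = 1451520 := by
    have h1 := H277.ClsPsp.card_psp h (m := 3) (by norm_num)
    norm_num [Finset.prod_range_succ] at h1
    exact h1
  have hr5 : Nat.Prime 5 := by norm_num
  refine rowT_orders (l := 2) (p := 2) (r := 5) (by norm_num) (by rw [h]; norm_num) (by norm_num) Nat.prime_two
    hr5 (by norm_num) ?_ ?_
  · refine orders_r (p := 2) (by norm_num) Nat.prime_two hr5 (by norm_num) (by rw [h]; norm_num)
      (by rw [h]; norm_num) (exists_prime_order hr5 (H376.SpEmb.exists_plus F 2 (by norm_num)) ?_)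
    rw [Nat.card_eq_fintype_card, h]
    norm_num
  · exact hasDZ_points (n := 5) (k := 30) (by norm_num) (by norm_num) h (by norm_num) hN (by norm_num) hr5
      (by norm_num) (by norm_num) (by norm_num) (by norm_num)

theorem rowT_eight_two (h : Fintype.card F = 2) : RowT (PSp 4 F) := by
  have : Fact (Nat.Prime 2) := ⟨Nat.prime_two⟩
  have := charP_of_card (F := F) (p := 2) h
  have hN : Nat.card (PSp 4 F) = 47377612800 := by
    have h1 := H277.ClsPsp.card_psp h (m := 4) (by norm_num)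
    norm_num [Finset.prod_range_succ] at h1
    exact h1
  have hr5 : Nat.Prime 7 := by norm_num
  refine rowT_orders (l := 3) (p := 2) (r := 7) (by norm_num) (by rw [h]; norm_num) (by norm_num) Nat.prime_two
    hr5 (by norm_num) ?_ ?_
  · refine orders_r (p := 2) (by norm_num) Nat.prime_two hr5 (by norm_num) (by rw [h]; norm_num)
      (by rw [h]; norm_num) (exists_prime_order hr5 (H376.SpEmb.exists_minus F 3 (by norm_num)) ?_)
    rw [Nat.card_eq_fintype_card, h]
    norm_num
  · exact hasDZ_points (n := 7) (k := 126) (by norm_num) (by norm_num) h (by norm_num) hN (by norm_num) hr5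
      (by norm_num) (by norm_num) (by norm_num) (by norm_num)

theorem rowT_six_three (h : Fintype.card F = 3) : RowT (PSp 3 F) := by
  have : Fact (Nat.Prime 3) := ⟨Nat.prime_three⟩
  have := charP_of_card (F := F) (p := 3) h
  have hN : Nat.card (PSp 3 F) = 4585351680 := by
    have h1 := H277.ClsPsp.card_psp h (m := 3) (by norm_num)
    norm_num [Finset.prod_range_succ] at h1
    omega
  have hr5 : Nat.Prime 5 := by norm_num
  refine rowT_orders (l := 2) (p := 3) (r := 5) (by norm_num) (by rw [h]; norm_num) (by norm_num) Nat.prime_three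
    hr5 (by norm_num) ?_ ?_
  · refine orders_r (p := 3) (by norm_num) Nat.prime_three hr5 (by norm_num) (by rw [h]; norm_num)
      (by rw [h]; norm_num) (exists_prime_order hr5 (H376.SpEmb.exists_plus F 2 (by norm_num)) ?_)
    rw [Nat.card_eq_fintype_card, h]
    norm_num
  · exact hasDZ_points (n := 5) (k := 120) (by norm_num) (by norm_num) h (by norm_num) hN
      (Or.inl (by rw [Nat.odd_iff]; norm_num)) hr5 (by norm_num) (by norm_num) (by norm_num) (by norm_num)

theorem rowT_four_three (h : Fintype.card F = 3) : RowT (PSp 2 F) := by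
  classical
  have : Fact (Nat.Prime 2) := ⟨Nat.prime_two⟩
  have : Fact (Nat.Prime 3) := ⟨Nat.prime_three⟩
  have := charP_of_card (F := F) (p := 3) h
  have hsim : IsSimpleGroup (PSp 2 F) := S0270.result 2 le_rfl (fun _ => h.ge)
  have hfin : Finite (symplecticGroup (Fin 2) F) := Subtype.finite
  refine rowT_orders (l := 1) (p := 3) (r := 2) le_rfl (by rw [h]; norm_num) (fun _ => h.ge) Nat.prime_three
    Nat.prime_two (by norm_num) ?_ ?_
  · obtain ⟨y, hy⟩ := H376.SpEmb.exists_plus F 1 one_ne_zero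
    rw [Nat.card_eq_fintype_card, h, show 3 ^ 1 + 1 = 4 by norm_num] at hy
    obtain ⟨a, ha⟩ := exists_prime_orderOf_dvd_card' (G := symplecticGroup (Fin 1) F) 3 (by
      rw [card_one, h]
      norm_num)
    have h2 : orderOf (i2 1 1 F y) = 4 := by rw [orderOf_injective _ (i2_injective le_rfl), hy]
    have h1 : orderOf (i1 1 1 F a) = 3 := by rw [orderOf_injective _ (i1_injective le_rfl), ha]
    have h3 : Commute (i1 1 1 F a) (i2 1 1 F y) := (i_comm a y).symm
    refine ⟨{2, 4, 12}, by decide, fun n hn => ?_⟩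
    rw [Finset.mem_insert, Finset.mem_insert, Finset.mem_singleton] at hn
    rcases hn with rfl | rfl | rfl
    · exact ⟨dvd_rfl, (i2 1 1 F y) ^ 2, by rw [orderOf_pow_of_dvd (by norm_num) (by rw [h2]; norm_num), h2]⟩
    · exact ⟨by norm_num, i2 1 1 F y, h2⟩
    · exact ⟨by norm_num, i1 1 1 F a * i2 1 1 F y, by
        rw [h3.orderOf_mul_eq_mul_orderOf_of_coprime (by rw [h1, h2]; norm_num), h1, h2]⟩
  · let K := GaloisField 2 2
    have : Finite K := inferInstance
    let _ : Fintype K := Fintype.ofFinite K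
    have hK : Fintype.card K = 4 := by
      rw [← Nat.card_eq_fintype_card, GaloisField.card 2 2 (by norm_num)]
      norm_num
    obtain ⟨e⟩ := S0822.result (F := K) (K := F) hK h
    have hL : IsLieTypeChar 2 (PSp 2 F) :=
      Or.inr (Or.inr (Or.inl ⟨K, inferInstance, inferInstance, inferInstance, 4, 2, by rw [hK]; norm_num,
        by norm_num, by norm_num, ⟨e.symm⟩⟩))
    exact hasDZ_of_hasSt (Cfsg.Agent.H167.StChar.hasSt_of_lie Nat.prime_two hL)

theorem bound_pow {q : ℕ} (hq : 3 ≤ q) {m : ℕ} (hm : 4 ≤ m) : 4 * (2 * m + 1) < q ^ m := by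
  induction m, hm using Nat.le_induction with
  | base =>
    calc 4 * (2 * 4 + 1) < 3 ^ 4 := by norm_num
      _ ≤ q ^ 4 := Nat.pow_le_pow_left hq 4
  | succ k hk ih =>
    calc 4 * (2 * (k + 1) + 1) ≤ 3 * (4 * (2 * k + 1)) := by omega
      _ ≤ q * (4 * (2 * k + 1)) := Nat.mul_le_mul_right _ hq
      _ < q * q ^ k := Nat.mul_lt_mul_of_pos_left ih (by omega)
      _ = q ^ (k + 1) := by ring

theorem bound_two {m : ℕ} (hm : 5 ≤ m) : 2 * (2 * m + 1) < 2 ^ m := by
  induction m, hm using Nat.le_induction with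
  | base => norm_num
  | succ k hk ih =>
    rw [pow_succ]
    omega

/-- **S4897, row `PSp_4(q)`** -/
theorem rowT_psp4 (h3 : 3 ≤ Fintype.card F) : RowT (PSp 2 F) := by
  have h0 : Nat.gcd 2 (Fintype.card F - 1) ≤ 2 := Nat.gcd_le_left _ (by norm_num)
  by_cases h : Fintype.card F = 3
  · exact rowT_four_three h
  · refine rowT_big le_rfl (fun _ => h3) (by omega) ?_
    by_cases h4 : Fintype.card F = 4
    · rw [h4]
      norm_num
    · have h5 : 5 ≤ Fintype.card F := by omega
      have h6 : 5 ^ 2 ≤ Fintype.card F ^ 2 := Nat.pow_le_pow_left h5 2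
      omega

/-- **S4897, row `PSp_2m(q)`** -/
theorem rowT_psp (hm : 3 ≤ m) : RowT (PSp m F) := by
  have h0 : Nat.gcd 2 (Fintype.card F - 1) ≤ 2 := Nat.gcd_le_left _ (by norm_num)
  have hq2 : 2 ≤ Fintype.card F := Fintype.one_lt_card
  rcases Nat.lt_or_ge (Fintype.card F) 3 with h3 | h3
  · have h2 : Fintype.card F = 2 := by omega
    rcases Nat.lt_or_ge m 5 with h5 | h5
    · have : m = 3 ∨ m = 4 := by omega
      rcases this with rfl | rfl
      · exact rowT_six_two h2
      · exact rowT_eight_two h2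
    · refine rowT_big (by omega) (by omega) (by omega) ?_
      rw [h2]
      have := bound_two h5
      norm_num
      omega
  · rcases Nat.lt_or_ge m 4 with h4 | h4
    · obtain rfl : m = 3 := by omega
      by_cases h : Fintype.card F = 3
      · exact rowT_six_three h
      · refine rowT_big (by omega) (by omega) (by omega) ?_
        have h5 : 4 ≤ Fintype.card F := by omega
        have h6 : 4 ^ 3 ≤ Fintype.card F ^ 3 := Nat.pow_le_pow_left h5 3
        omega
    · refine rowT_big (by omega) (by omega) (by omega) ?_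
      have h5 := bound_pow h3 h4
      have h6 : Nat.gcd 2 (Fintype.card F - 1) * (2 * m + 1) ≤ 2 * (2 * m + 1) := Nat.mul_le_mul_right _ h0
      omega

end Cfsg.Agent.H107.DZ.PSpRow
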