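import Cfsg.Agent.H107.DZ.Trans
import Cfsg.Agent.H504.TwoRows

/-!
# Rows of S4897 from the Steinberg character and a character of `r`-defect zero
-/

set_option autoImplicit false

namespace Cfsg.Agent.H107.DZ

open Cfsg Cfsg.Agent.H504.Zeros Cfsg.Agent.H504.TwoZ Cfsg.Agent.H665.NoPQ Cfsg.Agent.Characters.Core

/-- two characters of defect zero for different primes, the first one of prime power degree -/
theorem two_of_dz {p r : ℕ} (hp : p.Prime) (hr : r.Prime) (hpr : r ≠ p) {S : Type*} [Group S] [Finite S]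
    {θ : IrrCharacter S} (hθ : charDegree (θ : S → ℂ) = p ^ (Nat.card S).factorization p)
    (hdz : HasDZ r S) (s t : Finset S) (hs : NonConj s) (ht : NonConj t) (hps : ∀ g ∈ s, p ∣ orderOf g)
    (hrt : ∀ g ∈ t, r ∣ orderOf g) (hs3 : 3 ≤ s.card) (ht3 : 3 ≤ t.card) : Two S := by
  classical
  have : Fact p.Prime := ⟨hp⟩
  have : Fact r.Prime := ⟨hr⟩
  obtain ⟨ψ, hψ⟩ := hdz
  have h1 : (charDegree (θ : S → ℂ)).factorization p = (Nat.card S).factorization p := by
    rw [hθ, Nat.factorization_pow, Finsupp.smul_apply, hp.factorization_self, smul_eq_mul, mul_one]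
  refine two_of_zeros (χ := θ) (ψ := ψ) ?_ s t hs ht
    (fun g hg => Cfsg.Agent.H713.irr_zero_of_singular h1 (hps g hg))
    (fun g hg => Cfsg.Agent.H713.irr_zero_of_singular hψ (hrt g hg)) hs3 ht3
  rintro rfl
  obtain ⟨g, hg⟩ := Finset.card_pos.1 (show 0 < t.card by omega)
  have h2 : r ∣ Nat.card S := (hrt g hg).trans (orderOf_dvd_natCard g)
  have h3 : 0 < (Nat.card S).factorization r := hr.factorization_pos_of_dvd Nat.card_pos.ne' h2
  rw [hθ, Nat.factorization_pow, Finsupp.smul_apply, hp.factorization, Finsupp.single_apply, if_neg hpr.symm,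
    smul_zero] at hψ
  omega

/-- **Row from the Steinberg character and a character of `r`-defect zero.** -/
theorem rowT_of_dz {p r : ℕ} (hp : p.Prime) (hr : r.Prime) (hpr : r ≠ p) {S : Type} [Group S] [Finite S]
    [IsSimpleGroup S] (hna : ¬ IsMulCommutative S) (h : IsLieTypeChar p S) (s : Finset ℕ)
    (hs : ∀ n ∈ s, p ∣ n ∧ ∃ g : S, orderOf g = n) (hs3 : 3 ≤ s.card) (hdz : HasDZ r S) (t : Finset S)
    (ht : NonConj t) (hrt : ∀ g ∈ t, r ∣ orderOf g) (ht3 : 3 ≤ t.card) : RowT S := by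
  have : Fact p.Prime := ⟨hp⟩
  refine ⟨Or.inl ?_, row2_of_lie_orders hp hna h s hs hs3⟩
  obtain ⟨θ, h1, -⟩ := Cfsg.Agent.H761.LieExt.lie_ext hna h
  obtain ⟨u, hu, huc, huo⟩ := autNC_of_orders s fun n hn => (hs n hn).2
  exact two_of_dz hp hr hpr h1 hdz u t hu.nonConj ht (fun g hg => (hs _ (huo g hg)).1) hrt (huc ▸ hs3) ht3

/-- a simple group with elements of two different orders is not commutative -/
theorem not_comm_of_orders {S : Type*} [Group S] [Finite S] [IsSimpleGroup S] {g h : S} (hg : g ≠ 1)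
    (hh : h ≠ 1) (hgh : orderOf g ≠ orderOf h) : ¬ IsMulCommutative S := by
  intro hc
  let _ : CommGroup S := { (inferInstance : Group S) with mul_comm := hc.is_comm.comm }
  have hp : (Nat.card S).Prime := IsSimpleGroup.prime_card
  have h1 : ∀ x : S, x ≠ 1 → orderOf x = Nat.card S := fun x hx =>
    ((Nat.dvd_prime hp).1 (orderOf_dvd_natCard x)).resolve_left fun h => hx (orderOf_eq_one_iff.1 h)
  exact hgh ((h1 g hg).trans (h1 h hh).symm)

/-- **Row from the Steinberg character and a character of `r`-defect zero.** -/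
theorem rowT_of_dz' {p r : ℕ} (hp : p.Prime) (hr : r.Prime) (hpr : r ≠ p) {S : Type} [Group S] [Finite S]
    [IsSimpleGroup S] (h : IsLieTypeChar p S) (s : Finset ℕ)
    (hs : ∀ n ∈ s, p ∣ n ∧ ∃ g : S, orderOf g = n) (hs3 : 3 ≤ s.card) (hdz : HasDZ r S) (t : Finset S)
    (ht : NonConj t) (hrt : ∀ g ∈ t, r ∣ orderOf g) (ht3 : 3 ≤ t.card) : RowT S := by
  classical
  refine rowT_of_dz hp hr hpr ?_ h s hs hs3 hdz t ht hrt ht3
  obtain ⟨a, ha, b, hb, hab⟩ := Finset.one_lt_card.1 (show 1 < s.card by omega)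
  obtain ⟨h1, g, hg⟩ := hs a ha
  obtain ⟨h2, k, hk⟩ := hs b hb
  refine not_comm_of_orders (g := g) (h := k) ?_ ?_ (by rw [hg, hk]; exact hab)
  · rintro rfl
    rw [orderOf_one] at hg
    rw [← hg] at h1
    exact hp.one_lt.ne' (Nat.dvd_one.1 h1)
  · rintro rfl
    rw [orderOf_one] at hk
    rw [← hk] at h2
    exact hp.one_lt.ne' (Nat.dvd_one.1 h2)

end Cfsg.Agent.H107.DZ
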