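import Cfsg.Agent.H107.DZ.Fix
import Cfsg.Agent.H504.TwoZ

/-!
# Many classes of `r`-singular elements in `G / Z`, `G ≤ GL ι F` with an irreducible cyclic subgroup
-/

set_option autoImplicit false

namespace Cfsg.Agent.H107.DZ

open Matrix Cfsg.Agent.H504.Zeros

section

variable {F : Type*} [Field F] [Fintype F] {ι : Type*} [Fintype ι] [DecidableEq ι]
  {r : ℕ} [hr : Fact r.Prime]

theorem scalar_pow {a : F} {B : GL ι F} (hB : (B : Matrix ι ι F) = a • (1 : Matrix ι ι F)) :
    B ^ (Fintype.card F - 1) = 1 := by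
  classical
  rcases isEmpty_or_nonempty ι with h | h
  · exact Subsingleton.elim _ _
  have ha : a ≠ 0 := by
    rintro rfl
    rw [zero_smul] at hB
    have := B.isUnit
    rw [hB] at this
    exact not_isUnit_zero this
  apply Units.ext
  rw [Units.val_pow_eq_pow_val, hB, smul_pow, one_pow, FiniteField.pow_card_sub_one_eq_one a ha, one_smul,
    Units.val_one]

theorem card_not_dvd (N : ℕ) :
    Fintype.card {k : Fin (r * N) // ¬ r ∣ (k : ℕ)} = (r - 1) * N := by
  classical
  have h1 : Fintype.card {k : Fin (r * N) // ¬ r ∣ (k : ℕ)} + Fintype.card {k : Fin (r * N) // r ∣ (k : ℕ)} =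
      r * N := by
    have := Fintype.card_subtype_compl (fun k : Fin (r * N) => r ∣ (k : ℕ))
    have h2 := Fintype.card_subtype_le (fun k : Fin (r * N) => r ∣ (k : ℕ))
    rw [Fintype.card_fin] at this h2
    omega
  have h3 : Fintype.card {k : Fin (r * N) // r ∣ (k : ℕ)} = N := by
    have e : {k : Fin (r * N) // r ∣ (k : ℕ)} ≃ Fin N :=
      { toFun := fun k => ⟨k.1 / r, Nat.div_lt_of_lt_mul k.1.2⟩
        invFun := fun j => ⟨⟨r * j, Nat.mul_lt_mul_of_pos_left j.2 hr.out.pos⟩, dvd_mul_right _ _⟩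
        left_inv := by
          rintro ⟨⟨k, hk⟩, hd⟩
          apply Subtype.ext
          apply Fin.ext
          exact Nat.mul_div_cancel' hd
        right_inv := by
          rintro ⟨j, hj⟩
          apply Fin.ext
          exact Nat.mul_div_cancel_left _ hr.out.pos }
    rw [Fintype.card_congr e, Fintype.card_fin]
  rw [h3] at h1
  have h4 : (r - 1) * N + N = r * N := by
    have := hr.out.two_le
    obtain ⟨c, rfl⟩ : ∃ c, r = c + 1 := ⟨r - 1, by omega⟩
    rw [Nat.add_sub_cancel]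
    ring
  omega

/-- **many classes of `r`-singular elements** -/
theorem exists_many {G : Type*} [Group G] [Finite G] (Z : Subgroup G) [Z.Normal] (φ : G →* GL ι F)
    (hφ : Function.Injective φ) (hZ : ∀ z ∈ Z, ∃ a : F, ((φ z : GL ι F) : Matrix ι ι F) = a • 1)
    (hp : ∀ i, 0 < i → i < Fintype.card ι → ¬ r ∣ Fintype.card F ^ i - 1) (hq : ¬ r ∣ Fintype.card F)
    (h2 : 2 ≤ Fintype.card ι) {A : G} {N : ℕ} (hA : orderOf A = r * N) (hN : 0 < N) {t : ℕ}
    (hcard : t * (Fintype.card ι * Nat.card Z) < (r - 1) * N) :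
    ∃ s : Finset (G ⧸ Z), NonConj s ∧ t < s.card ∧ ∀ g ∈ s, r ∣ orderOf g := by
  classical
  have : Fintype Z := Fintype.ofFinite Z
  let K := AlgebraicClosure F
  have hn : Nonempty ι := by
    rw [← Fintype.card_pos_iff]; omega
  have hA' : orderOf (φ A) = r * N := by rw [orderOf_injective φ hφ, hA]
  obtain ⟨μ, hμ⟩ : (spectrum K (ext K (φ A))).Nonempty :=
    spectrum.nonempty_of_isAlgClosed_of_finiteDimensional K _
  have hoμ := orderOf_eq hp hq hA' hN hμ
  let J := {k : Fin (r * N) // ¬ r ∣ (k : ℕ)}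
  let c : J → ConjClasses (G ⧸ Z) := fun k => ConjClasses.mk ((A ^ (k.1 : ℕ) : G) : G ⧸ Z)
  have hfib : ∀ b ∈ (Finset.univ : Finset J).image c,
      ((Finset.univ : Finset J).filter fun i => c i = b).card ≤ Fintype.card ι * Nat.card Z := by
    intro b hb
    obtain ⟨k0, -, rfl⟩ := Finset.mem_image.1 hb
    have h1 : ∀ k : J, c k = c k0 → ∃ (i : Fin (Fintype.card ι)) (z : Z),
        ∀ a : F, ((φ z : GL ι F) : Matrix ι ι F) = a • 1 →
          μ ^ (k.1 : ℕ) = algebraMap F K a * (μ ^ Fintype.card F ^ (i : ℕ)) ^ (k0.1 : ℕ) := by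
      intro k hk
      obtain ⟨g, hg⟩ := isConj_iff.1 (ConjClasses.mk_eq_mk_iff_isConj.1 hk)
      obtain ⟨g, rfl⟩ := QuotientGroup.mk_surjective g
      have h3 : (QuotientGroup.mk (g * A ^ (k.1 : ℕ) * g⁻¹) : G ⧸ Z) = QuotientGroup.mk (A ^ (k0.1 : ℕ)) := by
        simpa using hg
      rw [eq_comm, QuotientGroup.eq] at h3
      obtain ⟨a, ha⟩ := hZ _ h3
      have ha0 : a ≠ 0 := by
        rintro rfl
        rw [zero_smul] at ha
        have := (φ ((A ^ (k0.1 : ℕ))⁻¹ * (g * A ^ (k.1 : ℕ) * g⁻¹))).isUnit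
        rw [ha] at this
        exact not_isUnit_zero this
      have h4 : φ A ^ (k.1 : ℕ) = φ g⁻¹ * (φ A ^ (k0.1 : ℕ) * φ ((A ^ (k0.1 : ℕ))⁻¹ * (g * A ^ (k.1 : ℕ) * g⁻¹))) *
          (φ g⁻¹)⁻¹ := by
        rw [← map_pow, ← map_pow, ← map_inv, ← map_mul, ← map_mul, ← map_mul]
        congr 1
        group
      have h5 : ((φ A ^ (k.1 : ℕ) : GL ι F) : Matrix ι ι F) = ((φ g⁻¹ : GL ι F) : Matrix ι ι F) *
          (a • ((φ A ^ (k0.1 : ℕ) : GL ι F) : Matrix ι ι F)) * (((φ g⁻¹)⁻¹ : GL ι F) : Matrix ι ι F) := by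
        conv_lhs => rw [h4]
        rw [Units.val_mul, Units.val_mul, Units.val_mul (φ A ^ (k0.1 : ℕ)), ha, Matrix.mul_smul, Matrix.mul_one]
      obtain ⟨i, hi, h6⟩ := conj_pow hp hq hA' hN hμ ha0 h5
      refine ⟨⟨i, hi⟩, ⟨_, h3⟩, fun b hb => ?_⟩
      have hab : a = b := by
        have h7 := ha.symm.trans hb
        have h8 := congrFun (congrFun h7 (Classical.arbitrary ι)) (Classical.arbitrary ι)
        simpa using h8
      rw [← hab]
      exact h6
    choose f g hfg using h1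
    rw [Nat.card_eq_fintype_card, ← Fintype.card_fin (Fintype.card ι), ← Fintype.card_prod, ← Finset.card_univ]
    refine Finset.card_le_card_of_injOn
      (fun k => if h : c k = c k0 then (f k h, g k h) else (⟨0, by omega⟩, 1)) (fun _ _ => Finset.mem_univ _) ?_
    intro k hk l hl hkl
    have hk' : c k = c k0 := (Finset.mem_filter.1 (Finset.mem_coe.1 hk)).2
    have hl' : c l = c k0 := (Finset.mem_filter.1 (Finset.mem_coe.1 hl)).2
    simp only [dif_pos hk', dif_pos hl', Prod.mk.injEq] at hkl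
    obtain ⟨a, ha⟩ := hZ _ (g k hk').2
    have e1 := hfg k hk' a ha
    have e2 := hfg l hl' a (by rw [← hkl.2]; exact ha)
    rw [hkl.1, ← e2] at e1
    apply Subtype.ext
    apply Fin.ext
    have hinj := pow_injOn_Iio_orderOf (x := μ)
    rw [hoμ, hA'] at hinj
    exact hinj k.1.2 l.1.2 e1
  have h1 := Finset.card_le_mul_card_image (Finset.univ : Finset J) (f := c) _ hfib
  rw [Finset.card_univ] at h1
  have hJ : Fintype.card J = (r - 1) * N := by
    rw [← card_not_dvd (r := r) N]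
  rw [hJ] at h1
  have h2' : t < ((Finset.univ : Finset J).image c).card := by
    by_contra h
    have h3 : ((Finset.univ : Finset J).image c).card ≤ t := by omega
    have h4 := Nat.mul_le_mul_left (Fintype.card ι * Nat.card Z) h3
    rw [mul_comm t] at hcard
    omega
  have h3 : ∀ b ∈ (Finset.univ : Finset J).image c, ∃ i : J, c i = b := fun b hb => by
    obtain ⟨i, -, hi⟩ := Finset.mem_image.1 hb
    exact ⟨i, hi⟩
  have hJne : Nonempty J := by
    rw [← Fintype.card_pos_iff, hJ]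
    omega
  choose! rr hrr using h3
  refine ⟨((Finset.univ : Finset J).image c).image fun b => ((A ^ ((rr b).1 : ℕ) : G) : G ⧸ Z), ?_, ?_, ?_⟩
  · intro g hg h hh hgh
    obtain ⟨a, ha, rfl⟩ := Finset.mem_image.1 hg
    obtain ⟨b, hb, rfl⟩ := Finset.mem_image.1 hh
    have h4 : c (rr a) = c (rr b) := ConjClasses.mk_eq_mk_iff_isConj.2 hgh
    rw [hrr a ha, hrr b hb] at h4
    rw [h4]
  · rw [Finset.card_image_of_injOn]
    · exact h2'
    · intro a ha b hb hab
      rw [← hrr a ha, ← hrr b hb]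
      exact congrArg ConjClasses.mk hab
  · intro x hx
    obtain ⟨b, -, rfl⟩ := Finset.mem_image.1 hx
    set k := (rr b).1 with hk
    have hkr : ¬ r ∣ (k : ℕ) := (rr b).2
    set m := orderOf ((A ^ (k : ℕ) : G) : G ⧸ Z) with hm
    have h4 : ((A ^ ((k : ℕ) * m) : G) : G ⧸ Z) = 1 := by
      rw [pow_mul, QuotientGroup.mk_pow, hm, pow_orderOf_eq_one]
    rw [QuotientGroup.eq_one_iff] at h4
    obtain ⟨a, ha⟩ := hZ _ h4
    have h5 := scalar_pow ha
    rw [map_pow, ← pow_mul] at h5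
    have h6 := orderOf_dvd_of_pow_eq_one h5
    rw [hA'] at h6
    have h7 : r ∣ k * m * (Fintype.card F - 1) := (dvd_mul_right r N).trans h6
    rcases hr.out.dvd_mul.1 h7 with h8 | h8
    · rcases hr.out.dvd_mul.1 h8 with h9 | h9
      · exact absurd h9 hkr
      · exact h9
    · exfalso
      have := hp 1 one_pos (by omega)
      rw [pow_one] at this
      exact this h8

end

end Cfsg.Agent.H107.DZ
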