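import Cfsg.Agent.H107.DZ.Three
import Cfsg.Agent.H665.DefZero

/-!
# Characters of defect zero from transvections

`G ≤ GL ι F` contains a transvection `t = 1 + w fᵀ`, `Z` is a group of scalars, `r` is a prime not dividing `q - 1`
such that no element of order `r` fixes `w` and no `r`-element fixes a subspace of codimension at most two: then
`G / Z` has an irreducible character of `r`-defect zero.
-/

set_option autoImplicit false

namespace Cfsg.Agent.H107.DZ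

open Matrix Cfsg.Agent.H665.NoPQ Cfsg.Agent.H665.DefZero

variable {F : Type*} [Field F] {ι : Type*} [Fintype ι] [DecidableEq ι]

theorem exists_ne_zero (h3 : 3 ≤ Fintype.card ι) (f₁ f₂ : ι → F) :
    ∃ v : ι → F, v ≠ 0 ∧ f₁ ⬝ᵥ v = 0 ∧ f₂ ⬝ᵥ v = 0 := by
  have h1 : LinearMap.ker (Matrix.toLin' (Matrix.of ![f₁, f₂])) ≠ ⊥ := by
    apply LinearMap.ker_ne_bot_of_finrank_lt
    rw [Module.finrank_fintype_fun_eq_card, Module.finrank_fintype_fun_eq_card, Fintype.card_fin]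
    omega
  obtain ⟨v, hv, hv0⟩ := (Submodule.ne_bot_iff _).1 h1
  rw [LinearMap.mem_ker, Matrix.toLin'_apply] at hv
  exact ⟨v, hv0, congrFun hv 0, congrFun hv 1⟩

/-- a conjugate of a transvection -/
theorem conj_trans {T C : GL ι F} {w f : ι → F} (hT : (T : Matrix ι ι F) = 1 + vecMulVec w f) :
    ((C * T * C⁻¹ : GL ι F) : Matrix ι ι F) =
      1 + vecMulVec ((C : Matrix ι ι F) *ᵥ w) (f ᵥ* ((C⁻¹ : GL ι F) : Matrix ι ι F)) := by
  rw [Units.val_mul, Units.val_mul, hT, mul_add, add_mul, mul_one, Units.mul_inv, Matrix.mul_vecMulVec,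
    Matrix.vecMulVec_mul]

theorem trans_fix {T : GL ι F} {w f v : ι → F} (hT : (T : Matrix ι ι F) = 1 + vecMulVec w f)
    (hv : f ⬝ᵥ v = 0) : (T : Matrix ι ι F) *ᵥ v = v := by
  rw [hT, Matrix.add_mulVec, Matrix.one_mulVec, Matrix.vecMulVec_mulVec, hv]
  simp

theorem inv_fix {T : GL ι F} {v : ι → F} (h : (T : Matrix ι ι F) *ᵥ v = v) :
    ((T⁻¹ : GL ι F) : Matrix ι ι F) *ᵥ v = v := by
  conv_lhs => rw [← h]
  rw [Matrix.mulVec_mulVec, ← Units.val_mul, inv_mul_cancel, Units.val_one, Matrix.one_mulVec]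

theorem pow_fix {M : Matrix ι ι F} {v : ι → F} (h : M *ᵥ v = v) (k : ℕ) : (M ^ k) *ᵥ v = v := by
  induction k with
  | zero => rw [pow_zero, Matrix.one_mulVec]
  | succ k ih => rw [pow_succ, ← Matrix.mulVec_mulVec, h, ih]

theorem pow_eig {M : Matrix ι ι F} {v : ι → F} {c : F} (h : M *ᵥ v = c • v) (k : ℕ) :
    (M ^ k) *ᵥ v = c ^ k • v := by
  induction k with
  | zero => rw [pow_zero, Matrix.one_mulVec, pow_zero, one_smul]
  | succ k ih => rw [pow_succ, ← Matrix.mulVec_mulVec, h, Matrix.mulVec_smul, ih, smul_smul, pow_succ, mul_comm c]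

variable [Fintype F] {r : ℕ} [hr : Fact r.Prime]

theorem eq_one_of_pow (hq1 : ¬ r ∣ Fintype.card F - 1) {c : F} (hc : c ≠ 0) (h : c ^ r = 1) : c = 1 := by
  have h1 := FiniteField.pow_card_sub_one_eq_one c hc
  have h2 : Nat.Coprime r (Fintype.card F - 1) := (Nat.Prime.coprime_iff_not_dvd hr.out).2 hq1
  have h3 := orderOf_dvd_of_pow_eq_one h
  have h4 := orderOf_dvd_of_pow_eq_one h1
  have h5 := Nat.dvd_gcd h3 h4
  rw [Nat.coprime_iff_gcd_eq_one.1 h2, Nat.dvd_one] at h5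
  exact orderOf_eq_one_iff.1 h5

/-- **Characters of defect zero from transvections.** -/
theorem hasDZ_of_trans {G : Type*} [Group G] [Finite G] (Z : Subgroup G) [Z.Normal] (φ : G →* GL ι F)
    (hφ : Function.Injective φ) (hZ : ∀ z ∈ Z, ∃ a : F, ((φ z : GL ι F) : Matrix ι ι F) = a • 1)
    (h3 : 3 ≤ Fintype.card ι) (hq1 : ¬ r ∣ Fintype.card F - 1) (t : G) (w f : ι → F) (hw : w ≠ 0)
    (hf : f ≠ 0) (ht : ((φ t : GL ι F) : Matrix ι ι F) = 1 + vecMulVec w f)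
    (ha : ∀ Y : G, Y ^ r = 1 → ((φ Y : GL ι F) : Matrix ι ι F) *ᵥ w = w → Y = 1)
    (hb : ∀ (Y : G) (k : ℕ), Y ^ r ^ k = 1 → (∃ f₁ f₂ : ι → F, ∀ v, f₁ ⬝ᵥ v = 0 → f₂ ⬝ᵥ v = 0 →
      ((φ Y : GL ι F) : Matrix ι ι F) *ᵥ v = v) → Y = 1) : HasDZ r (G ⧸ Z) := by
  classical
  have hs : ¬ r ∣ Nat.card (Subgroup.centralizer ({(t : G ⧸ Z)} : Set (G ⧸ Z))) := by
    intro hd
    obtain ⟨⟨y, hy⟩, hyr⟩ := exists_prime_orderOf_dvd_card' r hd
    rw [Subgroup.orderOf_mk] at hyr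
    obtain ⟨Y0, rfl⟩ := QuotientGroup.mk_surjective y
    rw [Subgroup.mem_centralizer_singleton_iff] at hy
    set Y := Y0 ^ (Fintype.card F - 1) with hY
    have hYr : Y ^ r = 1 := by
      have h1 : ((Y0 ^ r : G) : G ⧸ Z) = 1 := by rw [QuotientGroup.mk_pow, ← hyr, pow_orderOf_eq_one]
      rw [QuotientGroup.eq_one_iff] at h1
      obtain ⟨a, ha'⟩ := hZ _ h1
      have h2 := scalar_pow ha'
      apply hφ
      rw [map_one, ← h2, ← map_pow, hY, ← pow_mul, ← pow_mul, mul_comm]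
    have hY1 : (Y : G ⧸ Z) ≠ 1 := by
      intro h1
      rw [hY, QuotientGroup.mk_pow] at h1
      have h2 := orderOf_dvd_of_pow_eq_one h1
      rw [hyr] at h2
      exact hq1 h2
    apply hY1
    have hcomm : ((Y * t * Y⁻¹ * t⁻¹ : G) : G ⧸ Z) = 1 := by
      have h1 : Commute (Y0 : G ⧸ Z) (t : G ⧸ Z) := hy
      have h2 : Commute (Y : G ⧸ Z) (t : G ⧸ Z) := by
        rw [hY, QuotientGroup.mk_pow]
        exact h1.pow_left _
      rw [QuotientGroup.mk_mul, QuotientGroup.mk_mul, QuotientGroup.mk_mul, QuotientGroup.mk_inv,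
        QuotientGroup.mk_inv, h2.eq, mul_inv_cancel_right, mul_inv_cancel]
    rw [QuotientGroup.eq_one_iff] at hcomm
    obtain ⟨a, ha1⟩ := hZ _ hcomm
    have h4 : φ (Y * t * Y⁻¹) = φ (Y * t * Y⁻¹ * t⁻¹) * φ t := by
      rw [← map_mul]
      congr 1
      group
    have h5 : (1 : Matrix ι ι F) + vecMulVec (((φ Y : GL ι F) : Matrix ι ι F) *ᵥ w)
        (f ᵥ* (((φ Y)⁻¹ : GL ι F) : Matrix ι ι F)) = a • (1 + vecMulVec w f) := by
      rw [← conj_trans ht, ← map_inv, ← map_mul, ← map_mul, h4, Units.val_mul, ha1, ht, Matrix.smul_mul, one_mul]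
    have ha2 : a = 1 := by
      obtain ⟨v, hv, hv1, hv2⟩ := exists_ne_zero h3 f (f ᵥ* (((φ Y)⁻¹ : GL ι F) : Matrix ι ι F))
      have h6 := congrArg (fun M => M *ᵥ v) h5
      simp only [Matrix.add_mulVec, Matrix.smul_mulVec, Matrix.one_mulVec, Matrix.vecMulVec_mulVec, hv1, hv2] at h6
      have h7 : v = a • v := by simpa using h6
      obtain ⟨i, hi⟩ := Function.ne_iff.1 hv
      have h8 := congrFun h7 i
      rw [Pi.smul_apply, smul_eq_mul] at h8
      have h9 : (1 - a) * v i = 0 := by rw [sub_mul, one_mul, ← h8, sub_self]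
      rcases mul_eq_zero.1 h9 with h10 | h10
      · exact (sub_eq_zero.1 h10).symm
      · exact absurd h10 hi
    rw [ha2, one_smul, add_right_inj] at h5
    obtain ⟨i, hi⟩ := Function.ne_iff.1 hf
    have h6 := congrArg (fun M => M *ᵥ (Pi.single i (f i)⁻¹ : ι → F)) h5
    simp only [Matrix.vecMulVec_mulVec, dotProduct_single] at h6
    have hfi : f i * (f i)⁻¹ = 1 := mul_inv_cancel₀ hi
    rw [hfi] at h6
    set c := (f ᵥ* (((φ Y)⁻¹ : GL ι F) : Matrix ι ι F)) i * (f i)⁻¹ with hc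
    have h7 : c • (((φ Y : GL ι F) : Matrix ι ι F) *ᵥ w) = w := by
      simpa using h6
    have hc0 : c ≠ 0 := by
      intro h0
      rw [h0, zero_smul] at h7
      exact hw h7.symm
    have h8 : ((φ Y : GL ι F) : Matrix ι ι F) *ᵥ w = c⁻¹ • w := by
      conv_rhs => rw [← h7]
      rw [smul_smul, inv_mul_cancel₀ hc0, one_smul]
    have h9 := pow_eig h8 r
    rw [← Units.val_pow_eq_pow_val, ← map_pow, hYr, map_one, Units.val_one, Matrix.one_mulVec] at h9
    have h10 : (c⁻¹) ^ r = 1 := by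
      obtain ⟨i, hi⟩ := Function.ne_iff.1 hw
      have h11 := congrFun h9 i
      rw [Pi.smul_apply, smul_eq_mul] at h11
      have h12 : ((c⁻¹) ^ r - 1) * w i = 0 := by rw [sub_mul, one_mul, ← h11, sub_self]
      rcases mul_eq_zero.1 h12 with h13 | h13
      · exact sub_eq_zero.1 h13
      · exact absurd h13 hi
    have h11 := eq_one_of_pow hq1 (inv_ne_zero hc0) h10
    rw [h11, one_smul] at h8
    rw [ha Y hYr h8, QuotientGroup.mk_one]
  rcases defectZero_or r (t : G ⧸ Z) hs with h | ⟨g, h, hg, hh, hne, k, hk⟩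
  · exact h
  · exfalso
    obtain ⟨c, hc⟩ := isConj_iff.1 hg
    obtain ⟨d, hd⟩ := isConj_iff.1 hh
    obtain ⟨c, rfl⟩ := QuotientGroup.mk_surjective c
    obtain ⟨d, rfl⟩ := QuotientGroup.mk_surjective d
    have hgh : g * h⁻¹ = ((c * t * c⁻¹ * (d * t * d⁻¹)⁻¹ : G) : G ⧸ Z) := by
      rw [← hc, ← hd]; rfl
    set W := c * t * c⁻¹ * (d * t * d⁻¹)⁻¹ with hW
    have hfix : ∀ v, (f ᵥ* (((φ c)⁻¹ : GL ι F) : Matrix ι ι F)) ⬝ᵥ v = 0 →
        (f ᵥ* (((φ d)⁻¹ : GL ι F) : Matrix ι ι F)) ⬝ᵥ v = 0 → ((φ W : GL ι F) : Matrix ι ι F) *ᵥ v = v := by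
      intro v h1 h2
      have e1 := trans_fix (conj_trans (C := φ c) ht) h1
      have e2 := inv_fix (trans_fix (conj_trans (C := φ d) ht) h2)
      rw [hW, map_mul, map_inv, map_mul, map_mul, map_mul, map_mul, map_inv, map_inv, Units.val_mul,
        ← Matrix.mulVec_mulVec, e2, e1]
    have hWk : W ^ r ^ k = 1 := by
      have h1 : ((W ^ r ^ k : G) : G ⧸ Z) = 1 := by
        rw [QuotientGroup.mk_pow, ← hgh, ← hk, pow_orderOf_eq_one]
      rw [QuotientGroup.eq_one_iff] at h1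
      obtain ⟨a, ha1⟩ := hZ _ h1
      obtain ⟨v, hv, hv1, hv2⟩ := exists_ne_zero h3 (f ᵥ* (((φ c)⁻¹ : GL ι F) : Matrix ι ι F))
        (f ᵥ* (((φ d)⁻¹ : GL ι F) : Matrix ι ι F))
      have h2 := pow_fix (hfix v hv1 hv2) (r ^ k)
      rw [← Units.val_pow_eq_pow_val, ← map_pow, ha1, Matrix.smul_mulVec, Matrix.one_mulVec] at h2
      obtain ⟨i, hi⟩ := Function.ne_iff.1 hv
      have h8 := congrFun h2 i
      rw [Pi.smul_apply, smul_eq_mul] at h8
      have ha2 : a = 1 := by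
        have h9 : (a - 1) * v i = 0 := by rw [sub_mul, one_mul, h8, sub_self]
        rcases mul_eq_zero.1 h9 with h10 | h10
        · exact sub_eq_zero.1 h10
        · exact absurd h10 hi
      apply hφ
      apply Units.ext
      rw [ha1, ha2, one_smul, map_one, Units.val_one]
    apply hne
    rw [hgh, hb W k hWk ⟨_, _, hfix⟩, QuotientGroup.mk_one]

/-- the case of a primitive prime for the whole space -/
theorem hasDZ_of_prim {G : Type*} [Group G] [Finite G] (Z : Subgroup G) [Z.Normal] (φ : G →* GL ι F)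
    (hφ : Function.Injective φ) (hZ : ∀ z ∈ Z, ∃ a : F, ((φ z : GL ι F) : Matrix ι ι F) = a • 1)
    (h3 : 3 ≤ Fintype.card ι) (hp : ∀ i, 0 < i → i < Fintype.card ι → ¬ r ∣ Fintype.card F ^ i - 1)
    (hq : ¬ r ∣ Fintype.card F) (t : G) (w f : ι → F) (hw : w ≠ 0)
    (hf : f ≠ 0) (ht : ((φ t : GL ι F) : Matrix ι ι F) = 1 + vecMulVec w f) : HasDZ r (G ⧸ Z) := by
  have hq1 : ¬ r ∣ Fintype.card F - 1 := by
    have := hp 1 one_pos (by omega)
    rwa [pow_one] at this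
  refine hasDZ_of_trans Z φ hφ hZ h3 hq1 t w f hw hf ht (fun Y hY h => ?_) (fun Y k hY h => ?_)
  · apply hφ
    rw [map_one]
    exact no_fix (k := 1) hp hq (by rw [pow_one, ← map_pow, hY, map_one]) hw h
  · obtain ⟨f₁, f₂, hfix⟩ := h
    obtain ⟨v, hv, hv1, hv2⟩ := exists_ne_zero h3 f₁ f₂
    apply hφ
    rw [map_one]
    exact no_fix (k := k) hp hq (by rw [← map_pow, hY, map_one]) hv (hfix v hv1 hv2)

end Cfsg.Agent.H107.DZ
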